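import Mathlib
import Cfsg.Prelude.Def_Classical
import Cfsg.Agent.Lib.Helper14.CartanDieudonne

/-!
# The spectra of `PΩ_{2n+1}(q)` and `PSp_{2n}(q)` differ: package interface

Team project for S2362.  The number `p * (q ^ (n - 1) + 1)` is the order of an element of
`PSp_{2n}(q)` but not of `PΩ_{2n+1}(q)` (`q` odd, `n ≥ 3`).  Every `Pkg...` below is a `Prop`; a
package is delivered as a theorem whose type is that `Prop`.
-/

set_option autoImplicit false

namespace Cfsg.Agent.Lib.Helper14.Spec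

open Module
open Cfsg.Agent.Lib.Helper14 (reflLin)

universe u

/-- `x` acts irreducibly on the non-zero space `W`. -/
def IrrEnd {F : Type u} [Field F] {W : Type u} [AddCommGroup W] [Module F W]
    (x : W →ₗ[F] W) : Prop :=
  (∃ w : W, w ≠ 0) ∧ ∀ U : Submodule F W, (∀ u ∈ U, x u ∈ U) → U = ⊥ ∨ U = ⊤

/-! ## Existence in `PSp` -/

/-- **[SPTORUS]** A matrix of order exactly `q ^ d + 1` preserving a non-degenerate alternating
form in dimension `2 d`. -/
def PkgSpTorus : Prop :=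
  ∀ {F : Type u} [Field F] [Fintype F] (d : ℕ), 1 ≤ d →
    ∃ (ι : Type) (_ : Fintype ι) (_ : DecidableEq ι) (M y y' : Matrix ι ι F),
      Fintype.card ι = 2 * d ∧ y * y' = 1 ∧ (∀ v : ι → F, v ⬝ᵥ y.mulVec v = 0) ∧
      M.transpose * y * M = y ∧ ∀ k : ℕ, M ^ k = 1 ↔ (Fintype.card F ^ d + 1) ∣ k

/-- The existence statement: `PSp_{2n}(q)` has an element of order `p (q^(n-1) + 1)`. -/
def Exist : Prop :=
  ∀ {F : Type u} [Field F] [Fintype F] (p : ℕ) [Fact p.Prime] [CharP F p], p ≠ 2 →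
    ∀ n : ℕ, 2 ≤ n → ∃ g : Cfsg.PSp n F, orderOf g = p * (Fintype.card F ^ (n - 1) + 1)

/-- **[EXIST]** -/
def PkgExist : Prop := PkgSpTorus.{u} → Exist.{u}

/-! ## Non-existence in `PΩ`: arithmetic -/

/-- **[ZSIG]** A primitive prime divisor of `q ^ (2 d) - 1`. -/
def PkgZsig : Prop :=
  ∀ q d : ℕ, 3 ≤ q → 2 ≤ d →
    ∃ r : ℕ, r.Prime ∧ r ≠ 2 ∧ ¬ r ∣ q ∧ r ∣ q ^ d + 1 ∧ orderOf ((q : ℕ) : ZMod r) = 2 * d

/-! ## Non-existence in `PΩ`: the structure of an isometry of order `r` -/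

/-- **[DECOMP]** Fixed space and its orthogonal complement, for an isometry `x` with
`x ^ r = 1`, `r` invertible in `F`. -/
def PkgDecomp : Prop :=
  ∀ {F : Type u} [Field F] {V : Type u} [AddCommGroup V] [Module F V] [FiniteDimensional F V]
    (Q : QuadraticForm F V), (QuadraticMap.polarBilin Q).Nondegenerate →
    ∀ (r : ℕ) (x : V →ₗ[F] V), (r : F) ≠ 0 → x ^ r = 1 → (∀ v, Q (x v) = Q v) →
    ∃ W V₁ : Submodule F V, IsCompl W V₁ ∧
      (∀ w ∈ W, ∀ v ∈ V₁, QuadraticMap.polar Q w v = 0) ∧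
      (∀ v ∈ V₁, x v = v) ∧ (∀ w ∈ W, x w = w → w = 0) ∧
      (∀ t : V →ₗ[F] V, (∀ v, t (x v) = x (t v)) →
        (∀ w ∈ W, t w ∈ W) ∧ (∀ v ∈ V₁, t v ∈ V₁)) ∧
      (QuadraticMap.polarBilin (Q.restrict W)).Nondegenerate ∧
      (QuadraticMap.polarBilin (Q.restrict V₁)).Nondegenerate

/-- **[BLOCK]** An invariant subspace without fixed vectors of an endomorphism with
`x ^ r = 1` (`r` prime, invertible in `F`) has dimension divisible by the order of `q` modulo
`r`. -/
def PkgBlock : Prop :=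
  ∀ {F : Type u} [Field F] [Fintype F] {V : Type u} [AddCommGroup V] [Module F V]
    [FiniteDimensional F V] (r : ℕ), r.Prime → (r : F) ≠ 0 →
    ∀ (x : V →ₗ[F] V), x ^ r = 1 →
    ∀ U : Submodule F V, (∀ u ∈ U, x u ∈ U) → (∀ u ∈ U, x u = u → u = 0) →
      orderOf ((Fintype.card F : ℕ) : ZMod r) ∣ finrank F U

/-- The structure of an isometry of order `r` in dimension `2 d + 3`, where `q` has order `2 d`
modulo `r`. -/
def Struct : Prop :=
  ∀ {F : Type u} [Field F] [Fintype F] {V : Type u} [AddCommGroup V] [Module F V]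
    [FiniteDimensional F V] (Q : QuadraticForm F V),
    (QuadraticMap.polarBilin Q).Nondegenerate →
    ∀ (r d : ℕ), r.Prime → (r : F) ≠ 0 → 2 ≤ d →
      orderOf ((Fintype.card F : ℕ) : ZMod r) = 2 * d → finrank F V = 2 * d + 3 →
    ∀ (x : V →ₗ[F] V), x ^ r = 1 → x ≠ 1 → (∀ v, Q (x v) = Q v) →
    ∃ (W V₁ : Submodule F V) (hxW : ∀ w ∈ W, x w ∈ W), IsCompl W V₁ ∧
      (∀ w ∈ W, ∀ v ∈ V₁, QuadraticMap.polar Q w v = 0) ∧
      (∀ v ∈ V₁, x v = v) ∧ (∀ w ∈ W, x w = w → w = 0) ∧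
      (∀ t : V →ₗ[F] V, (∀ v, t (x v) = x (t v)) →
        (∀ w ∈ W, t w ∈ W) ∧ (∀ v ∈ V₁, t v ∈ V₁)) ∧
      (QuadraticMap.polarBilin (Q.restrict W)).Nondegenerate ∧
      (QuadraticMap.polarBilin (Q.restrict V₁)).Nondegenerate ∧
      finrank F W = 2 * d ∧ finrank F V₁ = 3 ∧ IrrEnd (x.restrict hxW)

/-- **[STRUCT]** -/
def PkgStruct : Prop := PkgDecomp.{u} → PkgBlock.{u} → Struct.{u}

/-! ## Non-existence in `PΩ`: the commutant of an irreducible endomorphism -/

/-- **[MODEL]** The commutant of an irreducible endomorphism of a space over a finite field is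
a finite field with `q ^ dim` elements. -/
def PkgModel : Prop :=
  ∀ {F : Type u} [Field F] [Fintype F] {W : Type u} [AddCommGroup W] [Module F W]
    [FiniteDimensional F W] (x : W →ₗ[F] W), IrrEnd x →
    ∃ (K : Type u) (_ : Field K) (_ : Algebra F K) (_ : Fintype K)
      (φ : K →ₐ[F] Module.End F W), Function.Injective φ ∧
      (∀ t : W →ₗ[F] W, t * x = x * t ↔ t ∈ Set.range φ) ∧
      Fintype.card K = Fintype.card F ^ finrank F W

/-- An isometry commuting with an irreducible isometry `x` (`x² ≠ 1`) in dimension `2 d` has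
order dividing `q ^ d + 1`. -/
def TorusExp : Prop :=
  ∀ {F : Type u} [Field F] [Fintype F] {W : Type u} [AddCommGroup W] [Module F W]
    [FiniteDimensional F W] (Q : QuadraticForm F W), (2 : F) ≠ 0 →
    (QuadraticMap.polarBilin Q).Nondegenerate → ∀ d : ℕ, finrank F W = 2 * d →
    ∀ x : W →ₗ[F] W, IrrEnd x → (∀ v, Q (x v) = Q v) → x * x ≠ 1 →
    ∀ t : W →ₗ[F] W, t * x = x * t → (∀ v, Q (t v) = Q v) →
      t ^ (Fintype.card F ^ d + 1) = 1

/-- **[TEXP]** -/
def PkgTorusExp : Prop := PkgModel.{u} → TorusExp.{u}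

/-- An element of the commutant of an irreducible endomorphism in dimension `2 d` whose
`(q ^ d + 1)`-th power is one has determinant one. -/
def TorusDet : Prop :=
  ∀ {F : Type u} [Field F] [Fintype F] {W : Type u} [AddCommGroup W] [Module F W]
    [FiniteDimensional F W] (d : ℕ), finrank F W = 2 * d →
    ∀ x : W →ₗ[F] W, IrrEnd x →
    ∀ t : W →ₗ[F] W, t * x = x * t → t ^ (Fintype.card F ^ d + 1) = 1 → LinearMap.det t = 1

/-- **[TDET]** -/
def PkgTorusDet : Prop := PkgModel.{u} → TorusDet.{u}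

/-- In the commutant of an irreducible endomorphism, an element of order exactly `m` generates
all the elements whose `m`-th power is one. -/
def TorusCyc : Prop :=
  ∀ {F : Type u} [Field F] [Fintype F] {W : Type u} [AddCommGroup W] [Module F W]
    [FiniteDimensional F W] (x : W →ₗ[F] W), IrrEnd x →
    ∀ (m : ℕ) (h c : W →ₗ[F] W), 0 < m → h * x = x * h → c * x = x * c →
      (∀ k : ℕ, h ^ k = 1 ↔ m ∣ k) → c ^ m = 1 → ∃ j : ℕ, c = h ^ j

/-- **[TCYC]** -/
def PkgTorusCyc : Prop := PkgModel.{u} → TorusCyc.{u}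

/-! ## Non-existence in `PΩ`: dimension three and determinants -/

/-- **[O3]** In a non-degenerate quadratic space of dimension three in odd characteristic `p`,
an isometry of order prime to `p` commuting with a non-trivial isometry of order `p` is `±1`. -/
def PkgO3 : Prop :=
  ∀ {F : Type u} [Field F] {V : Type u} [AddCommGroup V] [Module F V] [FiniteDimensional F V]
    (p : ℕ) [Fact p.Prime] [CharP F p], p ≠ 2 →
    ∀ Q : QuadraticForm F V, (QuadraticMap.polarBilin Q).Nondegenerate → finrank F V = 3 →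
    ∀ (u s : V →ₗ[F] V) (m : ℕ), (∀ v, Q (u v) = Q v) → (∀ v, Q (s v) = Q v) →
      u ^ p = 1 → u ≠ 1 → s * u = u * s → m.Coprime p → s ^ m = 1 → s = 1 ∨ s = -1

/-- **[DETSUM]** The determinant of an endomorphism preserving two complementary subspaces. -/
def PkgDetSum : Prop :=
  ∀ {F : Type u} [Field F] {V : Type u} [AddCommGroup V] [Module F V] [FiniteDimensional F V]
    (W V₁ : Submodule F V), IsCompl W V₁ →
    ∀ (f : V →ₗ[F] V) (hW : ∀ w ∈ W, f w ∈ W) (hV : ∀ v ∈ V₁, f v ∈ V₁),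
      LinearMap.det f = LinearMap.det (f.restrict hW) * LinearMap.det (f.restrict hV)

/-! ## The core -/

/-- The core: some power of an isometry of determinant one and order exactly
`p (q ^ d + 1)` in dimension `2 d + 3` is an even product of reflections with non-square spinor
norm. -/
def Core : Prop :=
  ∀ {F : Type u} [Field F] [Fintype F] {V : Type u} [AddCommGroup V] [Module F V]
    [FiniteDimensional F V] (p : ℕ) [Fact p.Prime] [CharP F p], p ≠ 2 →
    ∀ Q : QuadraticForm F V, (QuadraticMap.polarBilin Q).Nondegenerate →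
    ∀ d : ℕ, 2 ≤ d → finrank F V = 2 * d + 3 →
    ∀ A : V →ₗ[F] V, (∀ v, Q (A v) = Q v) → LinearMap.det A = 1 →
      (∀ k : ℕ, A ^ k = 1 ↔ p * (Fintype.card F ^ d + 1) ∣ k) →
      ∃ (k : ℕ) (l : List V), (∀ u ∈ l, Q u ≠ 0) ∧ Even l.length ∧
        ¬ IsSquare (l.map Q).prod ∧ (l.map (reflLin Q)).prod = A ^ k

end Cfsg.Agent.Lib.Helper14.Spec
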