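import Mathlib
import Cfsg.Agent.Lib.Helper14.Spec.Defs
import Cfsg.Agent.Lib.Helper14.POmegaOrder
import Cfsg.Agent.Lib.Helper14.Spinor
import Cfsg.Agent.Lib.Helper14.Forms

/-!
# S2362: the final assembly

From `Core` (non-existence of elements of order `p (q^(n-1) + 1)` in `Ω_{2n+1}(q)`) and `Exist`
(existence in `PSp_{2n}(q)`).
-/

set_option autoImplicit false

namespace Cfsg.Agent.Lib.Helper14.Spec

open Matrix Module Cfsg.Agent.Lib.Helper14

universe u

/-- No element of `Ω` has order `p (q ^ d + 1)` in dimension `2 d + 3`. -/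
theorem no_order_omega (hCore : Core.{u}) {F : Type u} [Field F] [Fintype F]
    {ι : Type} [Fintype ι] [DecidableEq ι] (p : ℕ) [Fact p.Prime] [CharP F p] (hp2 : p ≠ 2)
    (Q : QuadraticForm F (ι → F)) (hQ : (QuadraticMap.polarBilin Q).Nondegenerate)
    (Qf : (ι → F) → F) (hQf : ⇑Q = Qf) (d : ℕ) (hd : 2 ≤ d)
    (hcard : Fintype.card ι = 2 * d + 3)
    (g : ↥(Cfsg.isometryGroup F Qf)) (hg : g ∈ Cfsg.Omega F Qf) :
    orderOf g ≠ p * (Fintype.card F ^ d + 1) := by
  subst hQf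
  intro hord
  have hpp : p.Prime := Fact.out
  have h2 : (2 : F) ≠ 0 := by
    intro h
    have h1 : ((2 : ℕ) : F) = 0 := by exact_mod_cast h
    rw [CharP.cast_eq_zero_iff F p] at h1
    have h3 := Nat.le_of_dvd (by norm_num) h1
    have h4 := hpp.two_le
    omega
  obtain ⟨M, hM⟩ : ∃ M : Matrix ι ι F, M = ((g : GL ι F) : Matrix ι ι F) := ⟨_, rfl⟩
  have hpowM : ∀ k : ℕ,
      (((g ^ k : ↥(Cfsg.isometryGroup F ⇑Q)) : GL ι F) : Matrix ι ι F) = M ^ k := by
    intro k
    rw [hM]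
    simp
  have hMiso : ∀ v, Q (M *ᵥ v) = Q v := by
    rw [hM]
    exact isom_preserves g
  have hMdet : M.det = 1 := by
    rw [hM]
    exact (mem_specialIsometryGroup_iff _ g).mp (commutator_le_specialIsometryGroup _ hg)
  have hMord : ∀ k : ℕ, M ^ k = 1 ↔ p * (Fintype.card F ^ d + 1) ∣ k := by
    intro k
    rw [← hord, orderOf_dvd_iff_pow_eq_one, ← hpowM]
    constructor
    · intro h
      apply isom_ext
      rw [h]
      rfl
    · intro h
      rw [h]
      rfl
  obtain ⟨A, hAdef⟩ : ∃ A : (ι → F) →ₗ[F] (ι → F), A = M.mulVecLin := ⟨_, rfl⟩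
  have hApow : ∀ k : ℕ, A ^ k = (M ^ k).mulVecLin := by
    intro k
    induction k with
    | zero => rw [pow_zero, pow_zero, Matrix.mulVecLin_one]; rfl
    | succ k ih => rw [pow_succ, ih, hAdef, pow_succ, Matrix.mulVecLin_mul]; rfl
  have hA : ∀ v, Q (A v) = Q v := by
    intro v
    rw [hAdef, Matrix.mulVecLin_apply]
    exact hMiso v
  have hAdet : LinearMap.det A = 1 := by
    rw [hAdef, ← Matrix.toLin'_apply', LinearMap.det_toLin', hMdet]
  have hAord : ∀ k : ℕ, A ^ k = 1 ↔ p * (Fintype.card F ^ d + 1) ∣ k := by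
    intro k
    rw [hApow, ← hMord]
    constructor
    · intro h
      rw [ext_iff_mulVec]
      intro x
      have h1 := congrArg (fun f : (ι → F) →ₗ[F] (ι → F) => f x) h
      simp only [Matrix.mulVecLin_apply, Module.End.one_apply] at h1
      rw [h1, Matrix.one_mulVec]
    · intro h
      rw [h, Matrix.mulVecLin_one]
      rfl
  have hfin : finrank F (ι → F) = 2 * d + 3 := by
    rw [Module.finrank_fintype_fun_eq_card, hcard]
  obtain ⟨k, l, hl, hlen, hnsq, hprod⟩ := hCore p hp2 Q hQ d hd hfin A hA hAdet hAord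
  have hgk : g ^ k = prodElt Q hQ l hl := by
    apply eq_prodElt
    rw [hpowM, ext_iff_mulVec]
    intro x
    rw [← Matrix.mulVecLin_apply, ← hApow, ← hprod, ← prod_reflectionMatrix_mulVecLin,
      Matrix.mulVecLin_apply]
  have hmem : g ^ k ∈ commutator ↥(Cfsg.isometryGroup F ⇑Q) := Subgroup.pow_mem _ hg k
  rw [hgk, prodElt_mem_commutator_iff h2 Q hQ l hl] at hmem
  exact hnsq hmem.2

/-- The centre of `Ω` is trivial when `-1 ∉ Ω` (restated for a form given as a function). -/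
theorem center_omega_eq_bot' {ι : Type} [Fintype ι] [DecidableEq ι] {F : Type*} [Field F]
    [Fintype F] (Q : QuadraticForm F (ι → F))
    (hQ : (QuadraticMap.polarBilin Q).Nondegenerate) (Qf : (ι → F) → F) (hQf : ⇑Q = Qf)
    (E : Submodule F (ι → F)) (hE : 3 ≤ finrank F E) (hE0 : ∀ x ∈ E, Q x = 0)
    (hex : ¬ ∃ g : ↥(Cfsg.isometryGroup F Qf), g ∈ Cfsg.Omega F Qf ∧
      ((g : Matrix.GeneralLinearGroup ι F) : Matrix ι ι F) = -1) :
    Subgroup.center ↥(Cfsg.Omega F Qf) = ⊥ := by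
  subst hQf
  exact Subgroup.eq_bot_of_card_eq _ (card_center_omega_one Q hQ E hE hE0 (Or.inr hex))

/-- No element of `PΩ_{2n+1}(q)` has order `p (q ^ (n - 1) + 1)`. -/
theorem no_order_pomega (hCore : Core.{u}) {F : Type u} [Field F] [Fintype F]
    (hodd : Odd (Fintype.card F)) (n : ℕ) (hn : 3 ≤ n) (p : ℕ) [Fact p.Prime] [CharP F p]
    (g : Cfsg.POmega F (Cfsg.quadFormOdd n F)) :
    orderOf g ≠ p * (Fintype.card F ^ (n - 1) + 1) := by
  classical
  have h2 : (2 : F) ≠ 0 := two_ne_zero_of_card_odd hodd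
  have hp2 : p ≠ 2 := by
    rintro rfl
    apply h2
    have := CharP.cast_eq_zero F 2
    exact_mod_cast this
  have hZ : Subgroup.center ↥(Cfsg.Omega F (Cfsg.quadFormOdd n F)) = ⊥ := by
    obtain ⟨E₀, hE₀, hE₀0⟩ := exists_ts_three (oddQF n F)
      (fun j => Sum.inr (Sum.inl (Fin.castLE hn j)))
      (fun j => Sum.inr (Sum.inr (Fin.castLE hn j)))
      (fun j => by rw [oddQF_coe]; exact odd_isHypPair n F _)
      (fun i j h => by
        have h' := Sum.inl_injective (Sum.inr_injective h)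
        exact Fin.castLE_injective _ h')
      (fun i j => by simp)
    have hQ := oddQF_nondegenerate n F h2
    have hno : ¬ ∃ g : ↥(Cfsg.isometryGroup F (Cfsg.quadFormOdd n F)),
        g ∈ Cfsg.Omega F (Cfsg.quadFormOdd n F) ∧
        ((g : Matrix.GeneralLinearGroup (Unit ⊕ (Fin n ⊕ Fin n)) F) :
          Matrix (Unit ⊕ (Fin n ⊕ Fin n)) (Unit ⊕ (Fin n ⊕ Fin n)) F) = -1 := by
      rintro ⟨g, hg, hmat⟩
      have hdet := (mem_specialIsometryGroup_iff _ g).mp
        (commutator_le_specialIsometryGroup _ hg)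
      rw [hmat, Matrix.det_neg, Matrix.det_one, mul_one, Fintype.card_sum, Fintype.card_sum,
        Fintype.card_fin, Fintype.card_unit] at hdet
      have hodd' : Odd (1 + (n + n)) := ⟨n, by ring⟩
      rw [Odd.neg_one_pow hodd'] at hdet
      apply h2
      linear_combination -hdet
    exact center_omega_eq_bot' (oddQF n F) hQ _ (oddQF_coe n F) E₀ hE₀ hE₀0 hno
  obtain ⟨g, rfl⟩ := QuotientGroup.mk_surjective g
  intro hord
  obtain ⟨N, hN⟩ : ∃ N : ℕ, N = p * (Fintype.card F ^ (n - 1) + 1) := ⟨_, rfl⟩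
  rw [← hN] at hord
  have h1 : g ^ N = 1 := by
    have h : (QuotientGroup.mk g : Cfsg.POmega F (Cfsg.quadFormOdd n F)) ^ N = 1 := by
      rw [← hord]
      exact pow_orderOf_eq_one _
    rw [← QuotientGroup.mk_pow, QuotientGroup.eq_one_iff, hZ, Subgroup.mem_bot] at h
    exact h
  have h3 : orderOf g = N := by
    apply Nat.dvd_antisymm (orderOf_dvd_of_pow_eq_one h1)
    rw [← hord]
    apply orderOf_dvd_of_pow_eq_one
    rw [← QuotientGroup.mk_pow, pow_orderOf_eq_one]
    rfl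
  have h4 : orderOf (g : ↥(Cfsg.isometryGroup F (Cfsg.quadFormOdd n F))) = N := by
    rw [Subgroup.orderOf_coe]
    exact h3
  have hcard : Fintype.card (Unit ⊕ (Fin n ⊕ Fin n)) = 2 * (n - 1) + 3 := by
    rw [Fintype.card_sum, Fintype.card_sum, Fintype.card_fin, Fintype.card_unit]
    omega
  rw [hN] at h4
  exact no_order_omega hCore p hp2 (oddQF n F) (oddQF_nondegenerate n F h2) _ (oddQF_coe n F)
    (n - 1) (by omega) hcard g.1 g.2 h4

/-- S2362 from the core and the existence statement. -/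
theorem s2362_of (hCore : Core.{u}) (hEx : Exist.{u}) {F : Type u} [Field F] [Fintype F]
    (hodd : Odd (Fintype.card F)) (n : ℕ) (hn : 3 ≤ n) :
    Set.range (orderOf : Cfsg.POmega F (Cfsg.quadFormOdd n F) → ℕ) ≠
      Set.range (orderOf : Cfsg.PSp n F → ℕ) := by
  obtain ⟨p, hp⟩ := CharP.exists F
  haveI : Fact p.Prime := ⟨CharP.char_is_prime F p⟩
  have h2 : (2 : F) ≠ 0 := two_ne_zero_of_card_odd hodd
  have hp2 : p ≠ 2 := by
    rintro rfl
    apply h2
    have := CharP.cast_eq_zero F 2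
    exact_mod_cast this
  intro h
  have hex : ∃ g : Cfsg.PSp n F, orderOf g = p * (Fintype.card F ^ (n - 1) + 1) :=
    hEx p hp2 n (by omega)
  obtain ⟨g, hg⟩ := hex
  have hmem : p * (Fintype.card F ^ (n - 1) + 1) ∈ Set.range (orderOf : Cfsg.PSp n F → ℕ) :=
    ⟨g, hg⟩
  rw [← h] at hmem
  obtain ⟨g', hg'⟩ := hmem
  exact no_order_pomega hCore hodd n hn p g' hg'

end Cfsg.Agent.Lib.Helper14.Spec
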